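import Mathlib
import Cfsg.Agent.Lib.Helper14.PG63.Defs

/-!
# PG63 (S3664): package [CH] — Cayley–Hamilton with the coefficients forced by `Pred`
-/

set_option autoImplicit false
set_option maxHeartbeats 2000000

namespace Cfsg.Agent.Lib.Helper77.PG63

open Cfsg.Agent.Lib.Helper14.PG63 Matrix

universe u

theorem J4_mul_J4 (R : Type u) [Field R] : J4 R * J4 R = 1 := by
  ext i j
  fin_cases i <;> fin_cases j <;> simp [J4, Matrix.mul_apply, Fin.sum_univ_four]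

/-- `M J Mᵀ = J` from `Mᵀ J M = J`. -/
theorem form_symm {R : Type u} [Field R] (M : Matrix (Fin 4) (Fin 4) R)
    (hJ : Mᵀ * J4 R * M = J4 R) : M * J4 R * Mᵀ = J4 R := by
  have hJJ := J4_mul_J4 R
  have h1 : (J4 R * Mᵀ * J4 R) * M = 1 := by
    rw [Matrix.mul_assoc, Matrix.mul_assoc, ← Matrix.mul_assoc Mᵀ, hJ, hJJ]
  have h2 : M * (J4 R * Mᵀ * J4 R) = 1 := mul_eq_one_comm.mp h1
  calc M * J4 R * Mᵀ = M * (J4 R * Mᵀ * J4 R) * J4 R := by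
        simp only [Matrix.mul_assoc, hJJ, Matrix.mul_one]
    _ = J4 R := by rw [h2, Matrix.one_mul]

/-- the matrix `M + J Mᵀ J`, explicitly -/
def hL {R : Type u} [Field R] (M : Matrix (Fin 4) (Fin 4) R) : Matrix (Fin 4) (Fin 4) R :=
  !![M 0 0 + M 3 3, M 0 1 + M 2 3, M 0 2 + M 1 3, M 0 3 + M 0 3;
      M 1 0 + M 3 2, M 1 1 + M 2 2, M 1 2 + M 1 2, M 1 3 + M 0 2;
      M 2 0 + M 3 1, M 2 1 + M 2 1, M 2 2 + M 1 1, M 2 3 + M 0 1;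
      M 3 0 + M 3 0, M 3 1 + M 2 0, M 3 2 + M 1 0, M 3 3 + M 0 0]

theorem hL_eq {R : Type u} [Field R] (M : Matrix (Fin 4) (Fin 4) R) :
    M + J4 R * Mᵀ * J4 R = hL M := by
  ext i j
  simp only [Matrix.add_apply, Matrix.mul_apply, Fin.sum_univ_four, Matrix.transpose_apply]
  fin_cases i <;> fin_cases j <;> simp [J4, hL]

/-- the quadratic equation of `h = M + J Mᵀ J` (a Pfaffian identity in characteristic 2). -/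
theorem key_aux {R : Type u} [Field R] (h2 : (2 : R) = 0) (M : Matrix (Fin 4) (Fin 4) R)
    (hd : (M 0 0 + M 1 1 + M 2 2 + M 3 3) ^ 4 = M 0 0 * M 1 1 + M 0 0 * M 2 2 + M 0 1 * M 1 0 + M 0 1 * M 3 2 + M 0 2 * M 2 0 + M 0 2 * M 3 1 + M 1 0 * M 2 3 + M 1 1 * M 3 3 + M 1 3 * M 2 0 + M 1 3 * M 3 1 + M 2 2 * M 3 3 + M 2 3 * M 3 2) :
    hL M * hL M + (M 0 0 + M 1 1 + M 2 2 + M 3 3) • hL M +
      (M 0 0 + M 1 1 + M 2 2 + M 3 3) ^ 4 • (1 : Matrix (Fin 4) (Fin 4) R) = 0 := by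
  ext i j
  fin_cases i <;> fin_cases j <;>
    simp [hL, Matrix.mul_apply, Fin.sum_univ_four, Matrix.one_apply]
  · linear_combination hd + (M 0 0 * M 0 0 + M 0 0 * M 1 1 + M 0 0 * M 2 2 + (2) * M 0 0 * M 3 3 + M 0 1 * M 1 0 + M 0 1 * M 3 2 + M 0 2 * M 2 0 + M 0 2 * M 3 1 + (2) * M 0 3 * M 3 0 + M 1 0 * M 2 3 + M 1 1 * M 3 3 + M 1 3 * M 2 0 + M 1 3 * M 3 1 + M 2 2 * M 3 3 + M 2 3 * M 3 2 + M 3 3 * M 3 3) * h2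
  · linear_combination (M 0 0 * M 0 1 + M 0 0 * M 2 3 + M 0 1 * M 1 1 + M 0 1 * M 2 2 + M 0 1 * M 3 3 + M 0 2 * M 2 1 + M 0 3 * M 2 0 + M 0 3 * M 3 1 + M 1 1 * M 2 3 + M 1 3 * M 2 1 + M 2 2 * M 2 3 + M 2 3 * M 3 3) * h2
  · linear_combination (M 0 0 * M 0 2 + M 0 0 * M 1 3 + M 0 1 * M 1 2 + M 0 2 * M 1 1 + M 0 2 * M 2 2 + M 0 2 * M 3 3 + M 0 3 * M 1 0 + M 0 3 * M 3 2 + M 1 1 * M 1 3 + M 1 2 * M 2 3 + M 1 3 * M 2 2 + M 1 3 * M 3 3) * h2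
  · linear_combination ((3) * M 0 0 * M 0 3 + M 0 1 * M 0 2 + M 0 1 * M 1 3 + M 0 2 * M 2 3 + M 0 3 * M 1 1 + M 0 3 * M 2 2 + (3) * M 0 3 * M 3 3 + M 1 3 * M 2 3) * h2
  · linear_combination (M 0 0 * M 1 0 + M 0 0 * M 3 2 + M 0 2 * M 3 0 + M 1 0 * M 1 1 + M 1 0 * M 2 2 + M 1 0 * M 3 3 + M 1 1 * M 3 2 + M 1 2 * M 2 0 + M 1 2 * M 3 1 + M 1 3 * M 3 0 + M 2 2 * M 3 2 + M 3 2 * M 3 3) * h2
  · linear_combination hd + (M 0 0 * M 1 1 + M 0 0 * M 2 2 + M 0 1 * M 1 0 + M 0 1 * M 3 2 + M 0 2 * M 2 0 + M 0 2 * M 3 1 + M 1 0 * M 2 3 + M 1 1 * M 1 1 + (2) * M 1 1 * M 2 2 + M 1 1 * M 3 3 + (2) * M 1 2 * M 2 1 + M 1 3 * M 2 0 + M 1 3 * M 3 1 + M 2 2 * M 2 2 + M 2 2 * M 3 3 + M 2 3 * M 3 2) * h2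
  · linear_combination (M 0 0 * M 1 2 + M 0 2 * M 1 0 + M 0 2 * M 3 2 + M 1 0 * M 1 3 + (3) * M 1 1 * M 1 2 + (3) * M 1 2 * M 2 2 + M 1 2 * M 3 3 + M 1 3 * M 3 2) * h2
  · linear_combination (M 0 0 * M 0 2 + M 0 0 * M 1 3 + M 0 1 * M 1 2 + M 0 2 * M 1 1 + M 0 2 * M 2 2 + M 0 2 * M 3 3 + M 0 3 * M 1 0 + M 0 3 * M 3 2 + M 1 1 * M 1 3 + M 1 2 * M 2 3 + M 1 3 * M 2 2 + M 1 3 * M 3 3) * h2
  · linear_combination (M 0 0 * M 2 0 + M 0 0 * M 3 1 + M 0 1 * M 3 0 + M 1 0 * M 2 1 + M 1 1 * M 2 0 + M 1 1 * M 3 1 + M 2 0 * M 2 2 + M 2 0 * M 3 3 + M 2 1 * M 3 2 + M 2 2 * M 3 1 + M 2 3 * M 3 0 + M 3 1 * M 3 3) * h2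
  · linear_combination (M 0 0 * M 2 1 + M 0 1 * M 2 0 + M 0 1 * M 3 1 + (3) * M 1 1 * M 2 1 + M 2 0 * M 2 3 + (3) * M 2 1 * M 2 2 + M 2 1 * M 3 3 + M 2 3 * M 3 1) * h2
  · linear_combination hd + (M 0 0 * M 1 1 + M 0 0 * M 2 2 + M 0 1 * M 1 0 + M 0 1 * M 3 2 + M 0 2 * M 2 0 + M 0 2 * M 3 1 + M 1 0 * M 2 3 + M 1 1 * M 1 1 + (2) * M 1 1 * M 2 2 + M 1 1 * M 3 3 + (2) * M 1 2 * M 2 1 + M 1 3 * M 2 0 + M 1 3 * M 3 1 + M 2 2 * M 2 2 + M 2 2 * M 3 3 + M 2 3 * M 3 2) * h2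
  · linear_combination (M 0 0 * M 0 1 + M 0 0 * M 2 3 + M 0 1 * M 1 1 + M 0 1 * M 2 2 + M 0 1 * M 3 3 + M 0 2 * M 2 1 + M 0 3 * M 2 0 + M 0 3 * M 3 1 + M 1 1 * M 2 3 + M 1 3 * M 2 1 + M 2 2 * M 2 3 + M 2 3 * M 3 3) * h2
  · linear_combination ((3) * M 0 0 * M 3 0 + M 1 0 * M 2 0 + M 1 0 * M 3 1 + M 1 1 * M 3 0 + M 2 0 * M 3 2 + M 2 2 * M 3 0 + (3) * M 3 0 * M 3 3 + M 3 1 * M 3 2) * h2
  · linear_combination (M 0 0 * M 2 0 + M 0 0 * M 3 1 + M 0 1 * M 3 0 + M 1 0 * M 2 1 + M 1 1 * M 2 0 + M 1 1 * M 3 1 + M 2 0 * M 2 2 + M 2 0 * M 3 3 + M 2 1 * M 3 2 + M 2 2 * M 3 1 + M 2 3 * M 3 0 + M 3 1 * M 3 3) * h2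
  · linear_combination (M 0 0 * M 1 0 + M 0 0 * M 3 2 + M 0 2 * M 3 0 + M 1 0 * M 1 1 + M 1 0 * M 2 2 + M 1 0 * M 3 3 + M 1 1 * M 3 2 + M 1 2 * M 2 0 + M 1 2 * M 3 1 + M 1 3 * M 3 0 + M 2 2 * M 3 2 + M 3 2 * M 3 3) * h2
  · linear_combination hd + (M 0 0 * M 0 0 + M 0 0 * M 1 1 + M 0 0 * M 2 2 + (2) * M 0 0 * M 3 3 + M 0 1 * M 1 0 + M 0 1 * M 3 2 + M 0 2 * M 2 0 + M 0 2 * M 3 1 + (2) * M 0 3 * M 3 0 + M 1 0 * M 2 3 + M 1 1 * M 3 3 + M 1 3 * M 2 0 + M 1 3 * M 3 1 + M 2 2 * M 3 3 + M 2 3 * M 3 2 + M 3 3 * M 3 3) * h2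

/-- **[CH]** Cayley–Hamilton with the coefficients forced by `Pred`. -/
theorem pkgCH : PkgCH.{u} := by
  intro F _ _ _ _ M hM
  obtain ⟨hJ, hS⟩ := hM
  have h2 : (2 : F) = 0 := CharTwo.two_eq_zero
  have hMJ := form_symm M hJ
  have s0 : M 0 0 * M 1 1 - M 1 0 * M 0 1 = M 0 0 ^ 4 := congrFun (congrFun hS 0) 0
  have s1 : M 0 0 * M 2 2 - M 2 0 * M 0 2 = M 1 1 ^ 4 := congrFun (congrFun hS 1) 1
  have s2 : M 1 1 * M 3 3 - M 3 1 * M 1 3 = M 2 2 ^ 4 := congrFun (congrFun hS 2) 2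
  have s3 : M 2 2 * M 3 3 - M 3 2 * M 2 3 = M 3 3 ^ 4 := congrFun (congrFun hS 3) 3
  have rA : M 0 0 * M 3 3 + M 0 1 * M 3 2 + M 0 2 * M 3 1 + M 0 3 * M 3 0 = 1 := by
    have := congrFun (congrFun hMJ 0) 3
    simp only [Matrix.mul_apply, Fin.sum_univ_four, Matrix.transpose_apply] at this
    simp [J4] at this
    linear_combination this
  have rC : M 0 0 * M 3 3 + M 1 0 * M 2 3 + M 2 0 * M 1 3 + M 3 0 * M 0 3 = 1 := by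
    have := congrFun (congrFun hJ 0) 3
    simp only [Matrix.mul_apply, Fin.sum_univ_four, Matrix.transpose_apply] at this
    simp [J4] at this
    linear_combination this
  have hd : (M 0 0 + M 1 1 + M 2 2 + M 3 3) ^ 4 = M 0 0 * M 1 1 + M 0 0 * M 2 2 + M 0 1 * M 1 0 + M 0 1 * M 3 2 + M 0 2 * M 2 0 + M 0 2 * M 3 1 + M 1 0 * M 2 3 + M 1 1 * M 3 3 + M 1 3 * M 2 0 + M 1 3 * M 3 1 + M 2 2 * M 3 3 + M 2 3 * M 3 2 := by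
    linear_combination (-1) * s0 + (-1) * s1 + (-1) * s2 + (-1) * s3 + (-1) * rA + (-1) * rC + ((-1) + (2) * M 0 0 * M 0 0 * M 0 0 * M 1 1 + (2) * M 0 0 * M 0 0 * M 0 0 * M 2 2 + (2) * M 0 0 * M 0 0 * M 0 0 * M 3 3 + (3) * M 0 0 * M 0 0 * M 1 1 * M 1 1 + (6) * M 0 0 * M 0 0 * M 1 1 * M 2 2 + (6) * M 0 0 * M 0 0 * M 1 1 * M 3 3 + (3) * M 0 0 * M 0 0 * M 2 2 * M 2 2 + (6) * M 0 0 * M 0 0 * M 2 2 * M 3 3 + (3) * M 0 0 * M 0 0 * M 3 3 * M 3 3 + (2) * M 0 0 * M 1 1 * M 1 1 * M 1 1 + (6) * M 0 0 * M 1 1 * M 1 1 * M 2 2 + (6) * M 0 0 * M 1 1 * M 1 1 * M 3 3 + (6) * M 0 0 * M 1 1 * M 2 2 * M 2 2 + (12) * M 0 0 * M 1 1 * M 2 2 * M 3 3 + (6) * M 0 0 * M 1 1 * M 3 3 * M 3 3 + (2) * M 0 0 * M 2 2 * M 2 2 * M 2 2 + (6) * M 0 0 * M 2 2 * M 2 2 * M 3 3 + (6) * M 0 0 * M 2 2 * M 3 3 * M 3 3 + M 0 0 * M 3 3 + (2) *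 M 0 0 * M 3 3 * M 3 3 * M 3 3 + (-1) * M 0 1 * M 1 0 + (-1) * M 0 2 * M 2 0 + M 0 3 * M 3 0 + (2) * M 1 1 * M 1 1 * M 1 1 * M 2 2 + (2) * M 1 1 * M 1 1 * M 1 1 * M 3 3 + (3) * M 1 1 * M 1 1 * M 2 2 * M 2 2 + (6) * M 1 1 * M 1 1 * M 2 2 * M 3 3 + (3) * M 1 1 * M 1 1 * M 3 3 * M 3 3 + (2) * M 1 1 * M 2 2 * M 2 2 * M 2 2 + (6) * M 1 1 * M 2 2 * M 2 2 * M 3 3 + (6) * M 1 1 * M 2 2 * M 3 3 * M 3 3 + (2) * M 1 1 * M 3 3 * M 3 3 * M 3 3 + (-1) * M 1 3 * M 3 1 + (2) * M 2 2 * M 2 2 * M 2 2 * M 3 3 + (3) * M 2 2 * M 2 2 * M 3 3 * M 3 3 + (2) * M 2 2 * M 3 3 * M 3 3 * M 3 3 + (-1) * M 2 3 * M 3 2) * h2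
  have key := key_aux h2 M hd
  rw [← hL_eq] at key
  have htr : M.trace = M 0 0 + M 1 1 + M 2 2 + M 3 3 := by
    simp [Matrix.trace, Fin.sum_univ_four]
  rw [htr]
  obtain ⟨N', hN'⟩ : ∃ N' : Matrix (Fin 4) (Fin 4) F, N' = J4 F * Mᵀ * J4 F := ⟨_, rfl⟩
  have hN'M : N' * M = 1 := by
    rw [hN', Matrix.mul_assoc, Matrix.mul_assoc, ← Matrix.mul_assoc Mᵀ, hJ, J4_mul_J4]
  have hMN' : M * N' = 1 := mul_eq_one_comm.mp hN'M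
  have hMN'a : ∀ X : Matrix (Fin 4) (Fin 4) F, M * (N' * X) = X := by
    intro X
    rw [← Matrix.mul_assoc, hMN', Matrix.one_mul]
  rw [← hN'] at key
  obtain ⟨c, hc⟩ : ∃ c : F, c = M 0 0 + M 1 1 + M 2 2 + M 3 3 := ⟨_, rfl⟩
  rw [← hc] at key ⊢
  have k := congrArg (fun X => M * X * M) key
  simp only [Matrix.mul_add, Matrix.add_mul, Matrix.mul_smul, Matrix.smul_mul, Matrix.mul_one,
    Matrix.one_mul, Matrix.mul_assoc, Matrix.mul_zero, Matrix.zero_mul, hN'M, hMN'a] at k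
  have e2 : M * M + M * M = 0 := by
    rw [← two_smul F (M * M), h2, zero_smul]
  have q4 : M ^ 4 = M * (M * (M * M)) := by
    simp only [pow_succ, pow_zero, Matrix.one_mul, Matrix.mul_assoc]
  have q3 : M ^ 3 = M * (M * M) := by
    simp only [pow_succ, pow_zero, Matrix.one_mul, Matrix.mul_assoc]
  have q2 : M ^ 2 = M * M := by
    simp only [pow_succ, pow_zero, Matrix.one_mul]
  rw [q4, q3, q2]
  have e3 : M * (M * (M * M)) + c • (M * (M * M)) + c ^ 4 • (M * M) + c • M + 1 =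
      (M * (M * (M * M)) + M * M + (M * M + 1) + c • (M * (M * M) + M) + c ^ 4 • (M * M)) -
        (M * M + M * M) := by
    rw [smul_add]
    abel
  rw [e3, k, e2, sub_zero]

end Cfsg.Agent.Lib.Helper77.PG63
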